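import Mathlib
import Cfsg.Agent.Lib.Helper70.CMax.Defs
import Cfsg.Agent.Lib.Helper70.CMax.Basic
import Cfsg.Agent.Lib.Helper70.CMax.Core
import Cfsg.Agent.Lib.Helper70.CMax.Quot
import Cfsg.Agent.Lib.Helper70.CMax.Frob
import Cfsg.Agent.Lib.Helper1.CMaxRED
import Cfsg.Agent.Lib.Helper1.CMaxMINN

set_option autoImplicit false

namespace Cfsg.Agent.Lib.Helper70.CMax

open Subgroup

theorem core {G : Type*} [Group G] [Finite G] {N : Subgroup G} (h : CL N) : ∃ K p q, Out N K p q :=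
  core_of h (fun _ hL hLN hL1 hmin => Cfsg.Agent.Lib.Helper1.CMax.CL.min_normal_comm h hL hLN hL1 hmin)

/-! ## FINAL (helper70) -/
theorem S3905_of {G : Type*} [Group G] [Finite G] (N : Subgroup G) [N.Normal]
    (h : ∀ x : G, x ∈ N → x ∉ Subgroup.centralizer (N : Set G) → IsCoatom (Subgroup.centralizer ({x} : Set G))) :
    (∃ p : ℕ, p.Prime ∧ Cfsg.IsElementaryAbelian p (⊤ : Subgroup (↥N ⧸ Subgroup.center ↥N))) ∨
    (∃ (Q K : Subgroup (↥N ⧸ Subgroup.center ↥N)) (p : ℕ), p.Prime ∧ Cfsg.IsFrobeniusComplement Q ∧ (Nat.card ↥Q).Prime ∧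
      K.Normal ∧ (K : Set (↥N ⧸ Subgroup.center ↥N)) = Cfsg.frobeniusKernel Q ∧ Cfsg.IsElementaryAbelian p K) := by
  have hH : Hyp N := h
  rcases Cfsg.Agent.Lib.Helper1.CMax.red hH with ⟨p, hp, h1, h2⟩ | ⟨h1, h2⟩
  · left
    refine ⟨p, hp, ea_quot p ?_ ?_⟩
    · intro g
      rw [Subgroup.mem_center_iff]
      intro k
      have := (Subgroup.mem_centralizer_iff.1 (h1 g g.2)) k k.2
      exact Subtype.ext (by simpa using this)
    · intro g k
      rw [Subgroup.mem_center_iff]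
      intro l
      have := (Subgroup.mem_centralizer_iff.1 (h2 g g.2 k k.2)) l l.2
      exact Subtype.ext (by simpa using this)
  · right
    have hZn : (N ⊓ centralizer (N : Set G)).Normal := inferInstance
    obtain ⟨K, p, q, hO⟩ := core (CL_quot hH (N ⊓ centralizer (N : Set G)) rfl h1 h2)
    obtain ⟨f, hf, hr⟩ := exists_hom (N := N) (N ⊓ centralizer (N : Set G)) rfl
    have hFD := FD_of_Out f hf hr hO
    obtain ⟨Q, hQ1, hQ2, hQ3, hQ4⟩ := frob_of_FD hFD
    exact ⟨Q, K.comap f, p, hFD.pp, hQ1, hQ2, hFD.normal, hQ3, hQ4⟩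

theorem S3904_of {G : Type*} [Group G] [Finite G] (hna : ¬ IsMulCommutative G)
    (h : ∀ x : G, x ∉ Subgroup.center G → IsCoatom (Subgroup.centralizer ({x} : Set G))) :
    (∃ p : ℕ, p.Prime ∧ Cfsg.IsElementaryAbelian p (⊤ : Subgroup (G ⧸ Subgroup.center G))) ∨
    (¬ IsMulCommutative (G ⧸ Subgroup.center G) ∧ (∀ H : Subgroup (G ⧸ Subgroup.center G), H ≠ ⊤ → IsMulCommutative ↥H) ∧
      ∃ p q a : ℕ, p.Prime ∧ q.Prime ∧ p ≠ q ∧ Nat.card (G ⧸ Subgroup.center G) = p ^ a * q ∧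
        ∀ P : Subgroup (G ⧸ Subgroup.center G), Nat.card ↥P = p ^ a → P.Normal) := by
  have hc : centralizer ((⊤ : Subgroup G) : Set G) = center G := by
    rw [Subgroup.coe_top, Subgroup.centralizer_univ]
  have hH : Hyp (⊤ : Subgroup G) := by
    intro x _ hx
    rw [hc] at hx
    exact h x hx
  rcases Cfsg.Agent.Lib.Helper1.CMax.red hH with ⟨p, hp, h1, h2⟩ | ⟨h1, h2⟩
  · left
    rw [hc] at h1 h2
    exact ⟨p, hp, ea_quot p (fun g => h1 g (Subgroup.mem_top g))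
      (fun g k => h2 g (Subgroup.mem_top g) k (Subgroup.mem_top k))⟩
  · right
    have hZ : center G = (⊤ : Subgroup G) ⊓ centralizer ((⊤ : Subgroup G) : Set G) := by
      rw [hc, top_inf_eq]
    have hCL := CL_quot hH (center G) hZ h1 h2
    rw [Subgroup.map_top_of_surjective _ (QuotientGroup.mk'_surjective _)] at hCL
    obtain ⟨K, p, q, hO⟩ := core hCL
    have hFD := FD_of_Out (MonoidHom.id _) Function.injective_id (MonoidHom.range_eq_top.2 Function.surjective_id) hO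
    rw [Subgroup.comap_id] at hFD
    obtain ⟨m1, m2, a, m3, m4, m5⟩ := minnonab_of_FD hFD hO.min
    exact ⟨m1, m2, p, q, a, hFD.pp, hFD.qp, m3, m4, m5⟩

end Cfsg.Agent.Lib.Helper70.CMax
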